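import Cfsg.Agent.H592.Weak.TitsWords
import Cfsg.Agent.H509.WeakBlock
import Cfsg.Agent.H442.ZerosTwisted
import Cfsg.Agent.H755.Leo.Rat
import Cfsg.Agent.H661.SporRuTits
import Cfsg.Agent.H488.PBRow.TitsThree
import Cfsg.Agent.H164.AATits

/-!
# S4095, the Tits group at the prime 2 (helper592, task 3110 of helper509)
-/

set_option autoImplicit false

universe u

namespace Cfsg.Agent.H592.WeakTits

open Subgroup Cfsg Cfsg.Agent.H509.Weak
open Cfsg.Agent.H652.Four
open Cfsg.Agent.Blocks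

/-- `O_2(C(w)) = 1` if a cyclic Sylow 2-subgroup of `C(w)` is generated by `f` and the involution in `⟨f⟩` is not central in
`C(w)`. -/
theorem core_of {G : Type*} [Group G] [Finite G] {w f e : G} {k : ℕ} (h1 : f * w = w * f) (h2 : e * w = w * e)
    (h3 : orderOf f = 2 ^ (k + 1)) (h4 : e * f ^ 2 ^ k ≠ f ^ 2 ^ k * e)
    (h5 : ¬ 2 ^ (k + 2) ∣ Nat.card (centralizer ({w} : Set G))) : pCore 2 ↥(centralizer ({w} : Set G)) = ⊥ := by
  have : Fact (Nat.Prime 2) := ⟨Nat.prime_two⟩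
  let C := centralizer ({w} : Set G)
  let f' : C := ⟨f, mem_centralizer_singleton_iff.2 h1⟩
  let e' : C := ⟨e, mem_centralizer_singleton_iff.2 h2⟩
  have hf' : orderOf f' = 2 ^ (k + 1) := by rw [← h3]; exact Subgroup.orderOf_mk f _
  have hF : IsPGroup 2 (zpowers f') := IsPGroup.of_card (n := k + 1) (by rw [Nat.card_zpowers, hf'])
  obtain ⟨P, hP⟩ := hF.exists_le_sylow
  obtain ⟨m, hm⟩ := IsPGroup.iff_card.1 P.2
  have hmk : m ≤ k + 1 := by
    by_contra hlt
    apply h5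
    have h6 : 2 ^ (k + 2) ∣ Nat.card (P : Subgroup C) := hm ▸ pow_dvd_pow 2 (by omega)
    exact h6.trans (Subgroup.card_subgroup_dvd_card _)
  have hPF : (P : Subgroup C) = zpowers f' := by
    symm
    apply Subgroup.eq_of_le_of_card_ge hP
    rw [hm, Nat.card_zpowers, hf']
    exact Nat.pow_le_pow_right (by norm_num) hmk
  by_contra hO
  have hOn : (pCore 2 C).Normal := Lib.Cores.pCore_normal 2
  have hOp : IsPGroup 2 (pCore 2 C) := Lib.Cores.pCore_isPGroup 2
  have hOle : pCore 2 C ≤ zpowers f' := hPF ▸ Lib.Cores.pCore_le_sylow P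
  have key : ∀ x ∈ zpowers f', x * x = 1 → x ≠ 1 → x = f' ^ 2 ^ k := by
    intro x hx hx2 hx1
    have hx' : x ∈ Submonoid.powers f' := mem_powers_iff_mem_zpowers.2 hx
    obtain ⟨i, rfl⟩ := hx'
    change f' ^ i * f' ^ i = 1 at hx2
    change f' ^ i ≠ 1 at hx1
    change f' ^ i = _
    rw [← pow_add] at hx2
    have h7 := orderOf_dvd_of_pow_eq_one hx2
    rw [hf', ← two_mul, pow_succ'] at h7
    have h8 : 2 ^ k ∣ i := Nat.dvd_of_mul_dvd_mul_left (by norm_num) h7
    obtain ⟨j, rfl⟩ := h8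
    have hj : j % 2 = 1 := by
      by_contra hj
      apply hx1
      obtain ⟨l, rfl⟩ : 2 ∣ j := by omega
      rw [← orderOf_dvd_iff_pow_eq_one, hf', pow_succ]
      exact Dvd.intro l (by ring)
    have h9 : j = 2 * (j / 2) + 1 := by omega
    rw [h9, pow_mul, pow_add, pow_one, pow_mul, ← pow_mul f', ← pow_succ, ← hf', pow_orderOf_eq_one, one_pow, one_mul]
  have hOcard : 2 ∣ Nat.card (pCore 2 C) := by
    obtain ⟨n, hn⟩ := IsPGroup.iff_card.1 hOp
    rcases Nat.eq_zero_or_pos n with h0 | h0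
    · exfalso
      apply hO
      rw [h0, pow_zero] at hn
      exact Subgroup.card_eq_one.1 hn
    · rw [hn]
      exact dvd_pow_self 2 h0.ne'
  obtain ⟨x, hx⟩ := exists_prime_orderOf_dvd_card' (G := pCore 2 C) 2 hOcard
  have hxo : orderOf (x : C) = 2 := by rw [Subgroup.orderOf_coe, hx]
  have hx1 : (x : C) ≠ 1 := by
    intro h
    rw [h, orderOf_one] at hxo
    omega
  have hx2 : (x : C) * x = 1 := by
    have h7 := pow_orderOf_eq_one (x : C)
    rwa [hxo, pow_two] at h7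
  have hxe := key x (hOle x.2) hx2 hx1
  have hy := key (e' * x * e'⁻¹) (hOle (hOn.conj_mem _ x.2 e')) (by
    calc e' * x * e'⁻¹ * (e' * x * e'⁻¹) = e' * (x * x) * e'⁻¹ := by group
      _ = 1 := by rw [hx2]; group) (fun h => hx1 (by
        have h8 : (x : C) = e'⁻¹ * (e' * x * e'⁻¹) * e' := by group
        rw [h8, h]; group))
  rw [hxe] at hy
  apply h4
  have h9 : e' * f' ^ 2 ^ k = f' ^ 2 ^ k * e' := by
    calc e' * f' ^ 2 ^ k = (e' * f' ^ 2 ^ k * e'⁻¹) * e' := by group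
      _ = f' ^ 2 ^ k * e' := by rw [hy]
  have h10 := congrArg Subtype.val h9
  simpa using h10

/-- transport of `O_2(C(w)) = 1` along conjugation -/
theorem core_conj {G : Type*} [Group G] {w w' : G} (h : IsConj w w') (h1 : pCore 2 ↥(centralizer ({w} : Set G)) = ⊥) :
    pCore 2 ↥(centralizer ({w'} : Set G)) = ⊥ := by
  obtain ⟨c, hc⟩ := isConj_iff.1 h
  rw [← hc]
  exact pCore_equiv (centEquiv (MulAut.conj c) w) h1

section

variable {L : Type u} [Group L] [Finite L]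

theorem core_three (h : Cfsg.Lie.IsoTits L) {y : L} (hy : orderOf y = 3) :
    pCore 2 ↥(centralizer ({y} : Set L)) = ⊥ := by
  obtain ⟨w, f, e, h1, h2, h3, h4, h5⟩ := PK_tits PK_three h
  obtain ⟨t, v, -, -, -, -, hconj⟩ := Cfsg.Agent.H933.TitsRadThree.prop3_iso h
  refine core_conj ((hconj w h1).trans (hconj y hy).symm) (core_of h3 h4 h2 h5 ?_)
  rw [H488.PBRow.TitsThree.card_cent_three h h1]
  norm_num

omit [Finite L] in
theorem isConj_five (h : Cfsg.Lie.IsoTits L) {x y : L} (hx : orderOf x = 5) (hy : orderOf y = 5) : IsConj x y := by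
  have h1 : Cfsg.Agent.H164.AATits.Prop5 L := by
    obtain ⟨e⟩ := h
    have e' := e.symm
    exact @Cfsg.Agent.H164.AATits.Prop5.congr Cfsg.Lie.TitsGroup L _ _ e' Cfsg.Agent.H164.AATits.prop5_tits
  obtain ⟨a, g, -, -, -, -, hconj⟩ := h1
  obtain ⟨s, hs⟩ := hconj x hx
  obtain ⟨t, ht⟩ := hconj y hy
  exact (isConj_iff.2 ⟨s, hs⟩).trans (isConj_iff.2 ⟨t, ht⟩).symm

theorem core_five (h : Cfsg.Lie.IsoTits L) {y : L} (hy : orderOf y = 5) :
    pCore 2 ↥(centralizer ({y} : Set L)) = ⊥ := by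
  obtain ⟨w, f, e, h1, h2, h3, h4, h5⟩ := PK_tits PK_five h
  refine core_conj (isConj_five h h1 hy) (core_of h3 h4 h2 h5 ?_)
  rw [(Cfsg.Agent.CpAutTits.Row.out h).cent w h1]
  norm_num

theorem core_thirteen (h : Cfsg.Lie.IsoTits L) {y : L} (hy : orderOf y = 13) :
    pCore 2 ↥(centralizer ({y} : Set L)) = ⊥ := by
  have : Fact (Nat.Prime 2) := ⟨Nat.prime_two⟩
  by_contra hO
  obtain ⟨n, hn⟩ := IsPGroup.iff_card.1 (Lib.Cores.pCore_isPGroup (G := centralizer ({y} : Set L)) 2)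
  have hd : 2 ∣ Nat.card (pCore 2 ↥(centralizer ({y} : Set L))) := by
    rcases Nat.eq_zero_or_pos n with h0 | h0
    · exfalso
      apply hO
      rw [h0, pow_zero] at hn
      exact Subgroup.card_eq_one.1 hn
    · rw [hn]
      exact dvd_pow_self 2 h0.ne'
  obtain ⟨x, hx⟩ := exists_prime_orderOf_dvd_card' (G := pCore 2 ↥(centralizer ({y} : Set L))) 2 hd
  refine Cfsg.Agent.H661.Spor.not_commute_two (Cfsg.Agent.EvenType.ChevTwoTits.charTwo h) ?_ hy
    (t := ((x : centralizer ({y} : Set L)) : L)) ?_ ?_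
  · rw [Cfsg.Agent.NotCT.Orders.tits h]
    norm_num
  · rw [Subgroup.orderOf_coe, Subgroup.orderOf_coe, hx]
  · exact (mem_centralizer_singleton_iff.1 (x : centralizer ({y} : Set L)).2).symm

theorem factA (h : Cfsg.Lie.IsoTits L) : FactA L := by
  refine ⟨⊥, by rw [Subgroup.card_bot]; exact odd_one, fun w hw hw2 => Or.inl ?_⟩
  have hd : orderOf w ∣ 2 ^ 11 * (3 ^ 3 * (5 ^ 2 * 13)) := by
    have h1 := orderOf_dvd_natCard w
    rw [Cfsg.Agent.NotCT.Orders.tits h] at h1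
    norm_num
    exact h1
  have key : ∀ r : ℕ, r.Prime → ∀ k : ℕ, orderOf w ∣ r ^ k → orderOf w = r := fun r hr k h =>
    (Nat.prime_dvd_prime_iff_eq hw hr).1 (hw.dvd_of_dvd_pow h)
  rcases hw.dvd_mul.1 hd with h1 | h1
  · exact absurd (key 2 Nat.prime_two 11 h1) hw2
  rcases hw.dvd_mul.1 h1 with h1 | h1
  · exact core_three h (key 3 Nat.prime_three 3 h1)
  rcases hw.dvd_mul.1 h1 with h1 | h1
  · exact core_five h (key 5 Nat.prime_five 2 h1)
  · exact core_thirteen h ((Nat.prime_dvd_prime_iff_eq hw (by norm_num)).1 h1)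

theorem nn_five (h : Cfsg.Lie.IsoTits L) {y : L} (hy : orderOf y = 5) {M : Ideal AlgInt} (hM : IsPModular 2 M) :
    NN M (cl y) := by
  obtain ⟨e⟩ := h
  obtain ⟨χ, hχ⟩ := H442.ZerosTwisted.exists_deg
  have h3 : IsIrrCharacter L ((χ : Lie.TitsGroup → ℂ) ∘ e) :=
    Blocks.CliffordCentral.isIrrCharacter_comp χ.2 e.toMonoidHom e.surjective
  have h1 : ((χ : Lie.TitsGroup → ℂ) ∘ e) 1 = ((2048 : ℕ) : ℂ) := by
    show (χ : Lie.TitsGroup → ℂ) (e 1) = _
    rw [map_one, Cfsg.Agent.Blocks.Basic.irr_one_eq_charDegree χ.2, hχ]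
    norm_num
  have hh : Cfsg.Lie.IsoTits L := ⟨e⟩
  set ψ : L → ℂ := (χ : Lie.TitsGroup → ℂ) ∘ e with hψ
  have hconj : ∀ i, 0 < i → i < 5 → IsConj y (y ^ i) := by
    intro i h0 h5
    refine isConj_five hh hy ?_
    rw [Nat.Coprime.orderOf_pow, hy]
    rw [hy]
    interval_cases i <;> decide
  obtain ⟨a, b, hab, hv⟩ := Cfsg.Agent.H755.Leo.rat_val Nat.prime_five hy
    (Cfsg.Agent.Characters.Core.isIrr_isCharacter h3) hconj h1
  have hn := Cfsg.Agent.H755.Leo.normSq_le h3 y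
  have hc50 : Nat.card (centralizer ({y} : Set L)) = 50 := (Cfsg.Agent.CpAutTits.Row.out hh).cent y hy
  have hidx : (centralizer ({y} : Set L)).index = 359424 := by
    have h6 := Subgroup.card_mul_index (centralizer ({y} : Set L))
    rw [hc50, Cfsg.Agent.NotCT.Orders.tits hh] at h6
    omega
  set n : ℤ := (a : ℤ) - b with hnd
  have hv' : ψ y = (n : ℂ) := by rw [hv, hnd]; push_cast; ring
  have hn2 : n * n ≤ 50 := by
    rw [hc50, hv'] at hn
    have h7 : Complex.normSq (n : ℂ) = (n : ℝ) * n := by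
      rw [show ((n : ℤ) : ℂ) = (((n : ℤ) : ℝ) : ℂ) by push_cast; rfl, Complex.normSq_ofReal]
    rw [h7] at hn
    exact_mod_cast hn
  have hcc : centralChar ψ y = (351 : ℂ) * n / 2 := by
    rw [Basic.centralChar_def, hidx, hv', h1]
    push_cast
    ring
  have hint : IsIntegral ℤ ((351 : ℂ) * n / 2) := by
    rw [← hcc]
    exact Cfsg.Agent.Blocks.CentralScalar.isIntegral_centralChar h3 y
  have heven : ∃ k : ℤ, 351 * n = 2 * k := by
    obtain ⟨k, hk⟩ := Cfsg.Agent.Characters.GaloisBasic.exists_int_of_isIntegral hint ⟨351 * n / 2, by push_cast; rfl⟩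
    refine ⟨k, ?_⟩
    have h8 : (351 : ℂ) * n = 2 * k := by rw [← hk]; ring
    exact_mod_cast h8
  obtain ⟨k, hk⟩ := heven
  have hn7 : n ≤ 7 := by nlinarith
  have hn7' : -7 ≤ n := by nlinarith
  have hval : n = -2 := by omega
  refine NN.of_int hM ⟨ψ, h3⟩ (n := -351) ?_ (by norm_num)
  show centralChar ψ y = _
  rw [hcc, hval]
  push_cast
  ring

theorem factB (h : Cfsg.Lie.IsoTits L) : FactB L := by
  have h5 : 5 ∣ Nat.card L := by
    rw [Cfsg.Agent.NotCT.Orders.tits h]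
    norm_num
  have : Fact (Nat.Prime 5) := ⟨Nat.prime_five⟩
  obtain ⟨y, hy⟩ := exists_prime_orderOf_dvd_card' 5 h5
  have hy1 : y ≠ 1 := by
    rintro rfl
    rw [orderOf_one] at hy
    omega
  exact FactB.of_cl hy1 (core_five h hy) (fun β => isConj_five h hy (by rw [MulEquiv.orderOf_eq, hy]))
    fun M hM => nn_five h hy hM

/-- **The row of the Tits group at the prime 2.** -/
theorem row (h : Cfsg.Lie.IsoTits L) (B : Cfsg.Agent.H509.Weak.Base L) : Cfsg.Agent.H516.Row 2 L :=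
  row_of_facts B (factA h) (factB h)

end

end Cfsg.Agent.H592.WeakTits
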