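import Cfsg.Agent.Mrg.Omega.TwoF.Tits
import Cfsg.Agent.Omega.TwoF.TitsAut

/-!
# Centralizers of elements of order 3 and 5 in the Tits group, by words (helper592, S4095)

`PK r k G`: there are `w`, `f`, `e` with `w` of order `r`, `f ∈ C(w)` of order `2 ^ (k + 1)` and `e ∈ C(w)` not commuting
with `f ^ 2 ^ k`.
-/

set_option autoImplicit false
set_option maxRecDepth 100000

namespace Cfsg.Agent.H592.WeakTits

open Subgroup Cfsg.Agent.ChevalleyStructure.Tits.Pack Cfsg.Agent.ChevalleyStructure.Tits.Data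
  Cfsg.Agent.ChevalleyStructure.Tits.Cert
  Cfsg.Agent.ChevalleyStructure.Tits.Sat Cfsg.Agent.ChevalleyStructure.Tits.Final
  Cfsg.Agent.ChevalleyStructure.Tits.Mat Cfsg.Agent.ChevalleyStructure.Tits.Order
  Cfsg.Agent.ChevalleyStructure.Tits.Main
open Cfsg.Agent.Omega.TwoF.Tits
open scoped MatrixGroups

/-- see the header -/
def PK (r k : ℕ) (G : Type*) [Group G] : Prop :=
  ∃ w f e : G, orderOf w = r ∧ orderOf f = 2 ^ (k + 1) ∧ f * w = w * f ∧ e * w = w * e ∧ e * f ^ 2 ^ k ≠ f ^ 2 ^ k * e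

theorem PK.congr {r k : ℕ} {G H : Type*} [Group G] [Group H] (i : G ≃* H) (h : PK r k G) : PK r k H := by
  obtain ⟨w, f, e, h1, h2, h3, h4, h5⟩ := h
  refine ⟨i w, i f, i e, by rw [i.orderOf_eq, h1], by rw [i.orderOf_eq, h2], by rw [← map_mul, h3, map_mul],
    by rw [← map_mul, h4, map_mul], fun h6 => h5 (i.injective ?_)⟩
  rw [map_mul, map_mul, map_pow]
  exact h6

theorem wH_ne_one {l : List ℕ} (h : lt10 l = true) (h' : chkC ([], [1], l) = true) (h12 : ∀ i ∈ l, i < 12) :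
    wH l ≠ 1 := by
  intro h0
  have h1 : ((wH l : H0) : GL I52 (ZMod 2)) = 1 := by rw [h0]; rfl
  have h2 := coe_wH (l := l) h
  have h3 := not_mem_of_chk (ws := []) (O := [1]) (w := l) h' (by intro v hv; exact absurd hv (List.not_mem_nil)) h12
  apply h3
  rw [← h2, h1]
  exact Subgroup.one_mem _

/-- the general construction -/
theorem mk_PK {r k : ℕ} (hr : r.Prime) (w f e e' : List ℕ)
    (mw : (lt10 w && !par w) = true) (mf : (lt10 f && !par f) = true) (me : (lt10 e && !par e) = true)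
    (w1 : wH w ^ r = 1) (w0 : wH w ≠ 1) (f1 : wH f ^ 2 ^ (k + 1) = 1)
    (fw : wH f * wH w = wH w * wH f) (ew : wH e * wH w = wH w * wH e) (ee : wH e * wH e' = 1)
    (c0 : wH e * wH f ^ 2 ^ k * wH e' * wH f ^ 2 ^ k ≠ 1) : PK r k C := by
  have : Fact r.Prime := ⟨hr⟩
  have : Fact (Nat.Prime 2) := ⟨Nat.prime_two⟩
  have h1 : (⟨wH w, wH_mem mw⟩ : C) ^ r = 1 := by
    apply Subtype.ext
    rw [SubmonoidClass.coe_pow]
    exact w1
  have h2 : (⟨wH f, wH_mem mf⟩ : C) ^ 2 ^ (k + 1) = 1 := by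
    apply Subtype.ext
    rw [SubmonoidClass.coe_pow]
    exact f1
  have hz : (wH f ^ 2 ^ k) * (wH f ^ 2 ^ k) = 1 := by
    rw [← pow_add, ← two_mul, ← pow_succ']
    exact f1
  have h5 : wH e * wH f ^ 2 ^ k ≠ wH f ^ 2 ^ k * wH e := by
    intro h6
    apply c0
    rw [h6, mul_assoc (wH f ^ 2 ^ k), ee, mul_one, hz]
  have h3 : ¬ (⟨wH f, wH_mem mf⟩ : C) ^ 2 ^ k = 1 := by
    intro h4
    have h4' : wH f ^ 2 ^ k = 1 := by
      have := congrArg Subtype.val h4
      rwa [SubmonoidClass.coe_pow] at this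
    apply h5
    rw [h4', mul_one, one_mul]
  refine ⟨⟨wH w, wH_mem mw⟩, ⟨wH f, wH_mem mf⟩, ⟨wH e, wH_mem me⟩, ?_, ?_, Subtype.ext fw, Subtype.ext ew, ?_⟩
  · refine orderOf_eq_prime h1 ?_
    intro h4
    exact w0 (congrArg Subtype.val h4)
  · exact orderOf_eq_prime_pow h3 h2
  · intro h4
    apply h5
    have := congrArg Subtype.val h4
    rwa [Subgroup.coe_mul, Subgroup.coe_mul, SubmonoidClass.coe_pow] at this

theorem PK_three : PK 3 1 C := by
  refine mk_PK Nat.prime_three (List.replicate 4 [8, 1, 1, 0]).flatten (List.replicate 3 [8, 1, 1, 0]).flatten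
    [2, 3, 3, 3, 9, 8, 9, 8, 9, 8, 9, 3, 2] [2, 3, 3, 3, 9, 8, 9, 8, 9, 8, 9, 3, 3, 3, 3, 3, 3, 3, 3, 3, 2]
    (by decide) (by decide) (by decide) ?_ ?_ ?_ ?_ ?_ ?_ ?_
  · rw [← wH_rep]
    exact rel (v := []) (by decide +kernel)
  · exact wH_ne_one (by decide) (by decide +kernel) (by decide)
  · rw [← wH_rep]
    exact rel (v := []) (by decide +kernel)
  · rw [← wH_append, ← wH_append]
    exact rel (by decide +kernel)
  · rw [← wH_append, ← wH_append]
    exact rel (by decide +kernel)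
  · rw [← wH_append]
    exact rel (v := []) (by decide +kernel)
  · rw [← wH_rep, ← wH_append, ← wH_append, ← wH_append]
    exact wH_ne_one (by decide) (by decide +kernel) (by decide)

theorem PK_five : PK 5 0 C := by
  refine mk_PK Nat.prime_five [9, 7, 7] [1, 1, 1, 4, 1, 4] [8, 9, 8, 9, 8, 9, 8] [8, 9, 8, 9, 8, 9, 8]
    (by decide) (by decide) (by decide) ?_ ?_ ?_ ?_ ?_ ?_ ?_
  · rw [← wH_rep]
    exact rel (v := []) (by decide +kernel)
  · exact wH_ne_one (by decide) (by decide +kernel) (by decide)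
  · rw [← wH_rep]
    exact rel (v := []) (by decide +kernel)
  · rw [← wH_append, ← wH_append]
    exact rel (by decide +kernel)
  · rw [← wH_append, ← wH_append]
    exact rel (by decide +kernel)
  · rw [← wH_append]
    exact rel (v := []) (by decide +kernel)
  · rw [← wH_rep, ← wH_append, ← wH_append, ← wH_append]
    exact wH_ne_one (by decide) (by decide +kernel) (by decide)

theorem PK_aux {r k : ℕ} (h : PK r k C) (T : Subgroup (GL I52 (ZMod 2))) (hT : T = H0) : PK r k (commutator T) := by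
  subst hT
  exact h

theorem PK_of {r k : ℕ} {G K : Type*} [Group G] [Group K] (T : Subgroup G) (h : PK r k (commutator T))
    (e : K ≃* commutator T) : PK r k K := h.congr e.symm

theorem PK_tits {r k : ℕ} (hC : PK r k C) {K : Type*} [Group K] (h : Cfsg.Lie.IsoTits K) : PK r k K := by
  obtain ⟨T, hT, ⟨e⟩⟩ := Cfsg.Agent.Omega.TwoF.TitsAut.exists_equiv h
  exact PK_of T (PK_aux hC T hT) e

end Cfsg.Agent.H592.WeakTits
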